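import Groth.Agent.Lib.PoleOne18.Affine
import Groth.Agent.Lib.Pic18.Glue
import Groth.Agent.Lib.Ample18.Ample

/-!
# Separated Noetherian schemes of dimension one have ample invertible modules
-/

set_option autoImplicit false
set_option linter.style.haveILetI false
universe u

open CategoryTheory AlgebraicGeometry TopologicalSpace Opposite

namespace Groth.Agent.PoleOne18

open Groth.Agent.M1

variable {X : Scheme.{u}} [IsNoetherian X] [X.IsSeparated]

theorem exists_isAmple (hd : ∀ y : X, ringKrullDim (X.presheaf.stalk y) ≤ 1) :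
    ∃ L : X.Modules, CohB1.IsAmple L := by
  classical
  obtain ⟨U, hU, -, hgen⟩ := exists_affine_finite hd (∅ : Set X) Set.finite_empty
  haveI hdisc := discrete_compl U hd hgen
  have hfinc : ((U : Set X)ᶜ).Finite := by
    haveI : IsClosed ((U : Set X)ᶜ) := U.2.isClosed_compl
    haveI : CompactSpace ↥((U : Set X)ᶜ) :=
      isCompact_iff_compactSpace.1 (NoetherianSpace.isCompact _)
    exact Set.finite_coe_iff.1 finite_of_compact_of_discrete
  obtain ⟨VA, hVA, hcVA, hgenA⟩ := exists_affine_finite hd _ hfinc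
  obtain ⟨c, hcW, hc⟩ := exists_pole hd hU hgen _ hfinc (fun z hz => hz) (U ⊓ VA) fun z hz η hη hne =>
    ⟨Pic18.generization_mem U hdisc hz hη hne, hη.mem_open VA.2 (hcVA hz)⟩
  choose V₀ b hzV₀ hV₀ hzb hbc using fun z : {z : X // z ∉ U} => hc z.1 z.2
  let V : {z : X // z ∉ U} → X.Opens := fun z => V₀ z ⊓ VA
  have hbc' : ∀ z, ores (inf_le_left.trans inf_le_left : V z ⊓ U ≤ V₀ z) (b z) *
      ores (inf_le_right : V z ⊓ U ≤ U) c = 1 := fun z => by
    have h := congrArg (ores (inf_le_inf inf_le_left le_rfl : V z ⊓ U ≤ V₀ z ⊓ U)) (hbc z)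
    rwa [map_mul, ores_ores, ores_ores, map_one] at h
  have hone : ∀ (W : X.Opens) (r : Γ(X, W)), r • one W = (r : Γ(Coh.structureModule X, W)) :=
    fun W r => mul_one r
  let G : Pic18.Glue X :=
    { U := U
      ι := {z : X // z ∉ U}
      V := V
      P := Coh.structureModule X
      g := fun z => ores (inf_le_right : V z ⊓ U ≤ U) c
      hg := fun z => Pic18.bijective_smul_one _ (IsUnit.of_mul_eq_one _ ((mul_comm _ _).trans (hbc' z)))
      hP := fun p hp => ⟨U, _, hp, le_rfl, Pic18.bijective_smul_one 1 isUnit_one⟩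
      disj := fun i j hij z hz => by
        by_contra hzU
        exact hij (Subtype.ext ((hV₀ i z hz.1.1 hzU).symm.trans (hV₀ j z hz.2.1 hzU)))
      cov := fun p => (em (p ∈ U)).imp id fun h => ⟨⟨p, h⟩, hzV₀ ⟨p, h⟩, hcVA h⟩ }
  have hzV : ∀ z, z.1 ∈ V z := fun z => ⟨hzV₀ z, hcVA z.2⟩
  let σ : ∀ p : (⊤ : X.Opens), G.T p.1 := fun p =>
    if h : p.1 ∈ U then ((Coh.structureModule X).presheaf.germ U p.1 h (one U), 0)
    else (0, X.presheaf.germ (V₀ ⟨p.1, h⟩) p.1 (hzV₀ ⟨p.1, h⟩) (b ⟨p.1, h⟩))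
  let τ : ∀ p : (⊤ : X.Opens), G.T p.1 := fun p =>
    if h : p.1 ∈ U then ((Coh.structureModule X).presheaf.germ U p.1 h (c : Γ(Coh.structureModule X, U)), 0)
    else (0, 1)
  have hσ : G.pre.sheafify.pred σ := by
    intro p
    by_cases hp : p.1 ∈ U
    · exact ⟨U, hp, homOfLE le_top, Or.inl ⟨le_rfl, one U, fun q => dif_pos q.2⟩⟩
    · refine ⟨V ⟨p.1, hp⟩, hzV _, homOfLE le_top, Or.inr ⟨⟨p.1, hp⟩, le_rfl,
        ores inf_le_left (b ⟨p.1, hp⟩), fun q => ?_⟩⟩
      by_cases hq : q.1 ∈ U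
      · refine (dif_pos (hq : q.1 ∈ U)).trans ?_
        have hqV : q.1 ∈ V ⟨p.1, hp⟩ ⊓ U := ⟨q.2, hq⟩
        rw [G.E_pos (i := ⟨p.1, hp⟩) hqV, Prod.smul_mk, smul_zero]
        refine Prod.ext ?_ rfl
        have hval : ores (inf_le_left.trans inf_le_left : V ⟨p.1, hp⟩ ⊓ U ≤ _) (b ⟨p.1, hp⟩) •
            mres (Coh.structureModule X) (inf_le_right : V ⟨p.1, hp⟩ ⊓ U ≤ U) (c : Γ(Coh.structureModule X, U)) =
            mres (Coh.structureModule X) (inf_le_right : V ⟨p.1, hp⟩ ⊓ U ≤ U) (one U) := by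
          rw [mres_one]
          exact hbc' _
        have := congrArg ((Coh.structureModule X).presheaf.germ (V ⟨p.1, hp⟩ ⊓ U) q.1 hqV) hval
        rw [germ_smul, germ_mres _ (inf_le_right : V ⟨p.1, hp⟩ ⊓ U ≤ U) hqV (one U), X.presheaf.germ_res_apply] at this
        refine this.symm.trans (congrArg (fun r : X.presheaf.stalk q.1 => r •
          ((Coh.structureModule X).presheaf.germ (V ⟨p.1, hp⟩ ⊓ U) q.1 hqV (G.g ⟨p.1, hp⟩) :
            (Coh.structureModule X).presheaf.stalk q.1)) ?_)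
        exact (X.presheaf.germ_res_apply _ _ _ _).symm
      · obtain ⟨p, hptop⟩ := p
        obtain ⟨q, hqV⟩ := q
        obtain rfl : q = p := hV₀ ⟨p, hp⟩ q hqV.1 hq
        refine (dif_neg hq).trans ?_
        rw [G.E_neg (i := ⟨q, hp⟩) hq]
        exact Prod.ext (smul_zero _).symm ((X.presheaf.germ_res_apply _ _ _ _).symm.trans (mul_one _).symm)
  have hτe : ∀ (z : {z : X // z ∉ U}) (q : (V z : X.Opens)), τ ⟨q.1, trivial⟩ = G.E z q.1 := fun z q => by
    by_cases hq : q.1 ∈ U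
    · refine (dif_pos (hq : q.1 ∈ U)).trans ?_
      rw [G.E_pos (i := z) ⟨q.2, hq⟩]
      exact Prod.ext (germ_mres (Coh.structureModule X) (inf_le_right : V z ⊓ U ≤ U)
        (show q.1 ∈ V z ⊓ U from ⟨q.2, hq⟩) (c : Γ(Coh.structureModule X, U))).symm rfl
    · refine (dif_neg hq).trans ?_
      rw [G.E_neg (i := z) hq]
  have hτ : G.pre.sheafify.pred τ := by
    intro p
    by_cases hp : p.1 ∈ U
    · exact ⟨U, hp, homOfLE le_top, Or.inl ⟨le_rfl, _, fun q => dif_pos q.2⟩⟩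
    · refine ⟨V ⟨p.1, hp⟩, hzV _, homOfLE le_top, Or.inr ⟨⟨p.1, hp⟩, le_rfl, 1, fun q => ?_⟩⟩
      rw [map_one, one_smul]
      exact hτe ⟨p.1, hp⟩ q
  let s : Γ(G.mod, ⊤) := ⟨σ, hσ⟩
  let t : Γ(G.mod, ⊤) := ⟨τ, hτ⟩
  have hs : CohB1.genLocus G.mod (secHom s) = U := by
    refine Twist.genLocus_secHom_eq s U (fun W hW => ?_) fun U' hU' x hx' => ?_
    · have e : mres G.mod (le_top : U ≤ ⊤) s = G.ofN (W := U) le_rfl (one U) :=
        Subtype.ext (funext fun q => dif_pos q.2)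
      have h := G.isGen_ofN le_rfl (Pic18.bijective_smul_one (1 : Γ(X, U)) isUnit_one) W hW
      rw [← mres_mres G.mod (le_top : U ≤ ⊤) hW, e]
      exact h
    · by_contra hx
      let i : {x : X // x ∉ U} := ⟨x, hx⟩
      obtain ⟨a, ha⟩ := (hU' (U' ⊓ V i) inf_le_left).2 (mres G.mod inf_le_right (G.e i))
      have h := congrArg (fun m : Γ(G.mod, U' ⊓ V i) => (m.1 ⟨x, ⟨hx', hzV i⟩⟩).2) ha
      have h' : X.presheaf.germ (U' ⊓ V i) x ⟨hx', hzV i⟩ a * (σ ⟨x, trivial⟩).2 = (G.E i x).2 := h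
      rw [G.E_neg hx,
        show σ ⟨x, trivial⟩ = (0, X.presheaf.germ (V₀ i) x (hzV₀ i) (b i)) from dif_neg hx] at h'
      have h1 : X.presheaf.germ (U' ⊓ V i) x ⟨hx', hzV i⟩ a * X.presheaf.germ (V₀ i) x (hzV₀ i) (b i) = 1 := h'
      exact hzb i ((X.mem_basicOpen (b i) x (hzV₀ i)).2 (isUnit_of_mul_isUnit_right (h1 ▸ isUnit_one)))
  let O : X.Opens := X.basicOpen c ⊔ ⨆ z, V z
  have htgen : Twist.IsGen G.mod O (mres G.mod (le_top : O ≤ ⊤) t) := by
    refine Twist.isGen_of_stalk fun p hp => ?_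
    rw [germ_mres]
    rcases hp with hp | hp
    · have hu : IsUnit (ores (X.basicOpen_le c) c) := X.toRingedSpace.isUnit_res_basicOpen c
      have e : mres G.mod (le_top : X.basicOpen c ≤ ⊤) t =
          G.ofN (X.basicOpen_le c) (ores (X.basicOpen_le c) c : Γ(Coh.structureModule X, X.basicOpen c)) :=
        Subtype.ext (funext fun q => (dif_pos (X.basicOpen_le c q.2)).trans
          (Prod.ext (germ_mres (Coh.structureModule X) (X.basicOpen_le c) q.2 _).symm rfl))
      have h := (G.isGen_ofN (X.basicOpen_le c) (Pic18.bijective_smul_one _ hu)).stalk hp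
      rwa [← e, germ_mres] at h
    · obtain ⟨z, hz⟩ := Opens.mem_iSup.1 hp
      have e : mres G.mod (le_top : V z ≤ ⊤) t = G.e z := Subtype.ext (funext fun q => hτe z q)
      have h := (G.isGen_e z).stalk hz
      rwa [← e, germ_mres] at h
  have ht : CohB1.genLocus G.mod (secHom t) = O := by
    refine Twist.genLocus_secHom_eq t O (fun W hW => ?_) fun U' hU' x hx' => ?_
    · have := htgen W hW
      simpa only [mres_mres] using this
    · by_cases hx : x ∈ U
      · refine Or.inl ?_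
        obtain ⟨a, ha⟩ := (hU' (U' ⊓ U) inf_le_left).2 (G.ofN inf_le_right (one (U' ⊓ U)))
        have h := congrArg (fun m : Γ(G.mod, U' ⊓ U) => (m.1 ⟨x, ⟨hx', hx⟩⟩).1) ha
        have h' : X.presheaf.germ (U' ⊓ U) x ⟨hx', hx⟩ a • (τ ⟨x, trivial⟩).1 =
            (Coh.structureModule X).presheaf.germ (U' ⊓ U) x ⟨hx', hx⟩ (one (U' ⊓ U)) := h
        rw [show τ ⟨x, trivial⟩ = _ from dif_pos hx] at h'
        refine (X.mem_basicOpen c x hx).2 ?_
        rw [← germ_mres (Coh.structureModule X) (inf_le_right : U' ⊓ U ≤ U)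
          (show x ∈ U' ⊓ U from ⟨hx', hx⟩), ← germ_smul] at h'
        obtain ⟨Z, hxZ, i₁, i₂, hz⟩ := (Coh.structureModule X).presheaf.germ_eq x _ _ _ _ h'
        have hz' : ores i₁.le a * ores (i₁.le.trans inf_le_right) c = (1 : Γ(X, Z)) := by
          have hz'' : mres (Coh.structureModule X) i₁.le (a • mres (Coh.structureModule X)
              (inf_le_right : U' ⊓ U ≤ U) (c : Γ(Coh.structureModule X, U))) =
              mres (Coh.structureModule X) i₁.le (one (U' ⊓ U)) := hz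
          rw [mres_smul, mres_mres, mres_one] at hz''
          exact hz''
        have := congrArg (X.presheaf.germ Z x hxZ) hz'
        simp only [ores, map_mul, map_one, TopCat.Presheaf.germ_res_apply] at this
        exact isUnit_of_mul_isUnit_right (this ▸ isUnit_one)
      · exact Or.inr (Opens.mem_iSup.2 ⟨⟨x, hx⟩, hzV _⟩)
  refine ⟨G.mod, Amp.isAmple_iff.2 ⟨G.isInvertible, inferInstance, fun x => ?_⟩⟩
  by_cases hx : x ∈ U
  · exact ⟨0, _, Amp.hasSec_of_iso (M2.tensorPowOne G.mod).symm (secHom s), hs ▸ hx, hs.symm ▸ hU⟩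
  · refine ⟨0, _, Amp.hasSec_of_iso (M2.tensorPowOne G.mod).symm (secHom t), ?_, ?_⟩
    · rw [ht]; exact Or.inr (Opens.mem_iSup.2 ⟨⟨x, hx⟩, hzV _⟩)
    · rw [ht]
      exact isAffineOpen_of_le hd hVA (sup_le (hcW.trans inf_le_right) (iSup_le fun z => inf_le_right))

end Groth.Agent.PoleOne18
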