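import Groth.Agent.Lib.PoleOne18.Scheme
import Groth.Agent.Lib.DimOne18.Affine
import Mathlib.AlgebraicGeometry.Limits
import Mathlib.AlgebraicGeometry.Morphisms.Affine

/-!
# Finite sets of points of separated Noetherian schemes of dimension one lie in affine opens
-/

set_option autoImplicit false
set_option linter.style.haveILetI false
universe u

open CategoryTheory AlgebraicGeometry TopologicalSpace Opposite

namespace Groth.Agent.PoleOne18

open Groth.Agent.M1 (ores)

variable {X : Scheme.{u}} [IsNoetherian X]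

/-- An open inside an affine open is affine. -/
theorem isAffineOpen_of_le (hd : ∀ y : X, ringKrullDim (X.presheaf.stalk y) ≤ 1) {V O : X.Opens}
    (hV : IsAffineOpen V) (hO : O ≤ V) : IsAffineOpen O := by
  haveI : IsAffine V.toScheme := hV
  have hst : ∀ x : V.toScheme, IsNoetherianRing (V.toScheme.presheaf.stalk x) ∧
      ringKrullDim (V.toScheme.presheaf.stalk x) ≤ 1 := fun x => by
    let e : X.presheaf.stalk x.1 ≃+* V.toScheme.presheaf.stalk x := (V.stalkIso x).symm.commRingCatIsoToRingEquiv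
    exact ⟨isNoetherianRing_of_ringEquiv _ e, (ringKrullDim_eq_of_ringEquiv e).ge.trans (hd x.1)⟩
  have hc : IsCompact ((V.ι ⁻¹ᵁ O : V.toScheme.Opens) : Set V.toScheme) := by
    rw [V.ι.isOpenEmbedding.isEmbedding.isCompact_iff]
    exact NoetherianSpace.isCompact _
  have h := (DimOne18.isAffineOpen_of_isCompact hst (V.ι ⁻¹ᵁ O) hc).image_of_isOpenImmersion V.ι
  rwa [Scheme.Hom.image_preimage_eq_opensRange_inf, Scheme.Opens.opensRange_ι, inf_eq_right.2 hO] at h

/-- The points without proper generizations are finite, with an affine neighbourhood. -/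
theorem exists_affine_generic :
    ∃ (U : X.Opens) (G : Set X), IsAffineOpen U ∧ G.Finite ∧ G ⊆ U ∧
      ∀ η : X, (∀ b, b ⤳ η → b = η) → η ∈ G := by
  classical
  have hfin : (irreducibleComponents (X : Type u)).Finite := NoetherianSpace.finite_irreducibleComponents
  haveI := hfin.to_subtype
  choose η hη using fun Z : irreducibleComponents (X : Type u) =>
    QuasiSober.sober Z.2.1 (isClosed_of_mem_irreducibleComponents _ Z.2)
  have hclosed : ∀ Z : irreducibleComponents (X : Type u),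
      IsClosed (⋃ Z' ∈ (irreducibleComponents (X : Type u) \ {Z.1}), Z') := fun Z =>
    hfin.sdiff.isClosed_biUnion fun W hW => isClosed_of_mem_irreducibleComponents W hW.1
  have hnot : ∀ Z, η Z ∉ (⋃ Z' ∈ (irreducibleComponents (X : Type u) \ {Z.1}), Z') := fun Z h => by
    obtain ⟨Z', ⟨hZ', hne⟩, hmem⟩ := Set.mem_iUnion₂.1 h
    have hle : Z.1 ⊆ Z' := (hη Z).symm.le.trans
      (closure_minimal (Set.singleton_subset_iff.2 hmem) (isClosed_of_mem_irreducibleComponents _ hZ'))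
    exact hne (le_antisymm (Z.2.2 hZ'.1 hle) hle)
  choose B hB hηB hBle using fun Z => exists_isAffineOpen_mem_and_subset (x := η Z)
    (U := ⟨_, (hclosed Z).isOpen_compl⟩) (hnot Z)
  have hdisj : Pairwise (Function.onFun Disjoint B) := fun Z Z' hne => by
    refine disjoint_iff.2 (le_bot_iff.1 fun z hz => ?_)
    have hmem := mem_irreducibleComponent (x := z)
    have h1 : irreducibleComponent z = Z.1 := not_not.1 fun h => hBle Z hz.1 (Set.mem_iUnion₂.2
      ⟨_, ⟨irreducibleComponent_mem_irreducibleComponents z, h⟩, hmem⟩)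
    have h2 : irreducibleComponent z = Z'.1 := not_not.1 fun h => hBle Z' hz.2 (Set.mem_iUnion₂.2
      ⟨_, ⟨irreducibleComponent_mem_irreducibleComponents z, h⟩, hmem⟩)
    exact absurd (Subtype.ext (h1.symm.trans h2)) hne
  refine ⟨⨆ Z, B Z, Set.range η, IsAffineOpen.iSup_of_disjoint hB hdisj, Set.finite_range η, ?_, fun ξ hξ => ?_⟩
  · rintro _ ⟨Z, rfl⟩
    exact Opens.mem_iSup.2 ⟨Z, hηB Z⟩
  · let Z : irreducibleComponents (X : Type u) :=
      ⟨_, AffineFin18.closure_mem_irreducibleComponents hξ⟩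
    exact ⟨Z, (IsGenericPoint.eq (show IsGenericPoint ξ Z.1 from rfl) (hη Z)).symm⟩

variable [X.IsSeparated] (hd : ∀ y : X, ringKrullDim (X.presheaf.stalk y) ≤ 1)
  {U : X.Opens} (hU : IsAffineOpen U) (hgen : ∀ η : X, (∀ b, b ⤳ η → b = η) → η ∈ U)

include hd hU hgen in
/-- Poles at finitely many points, zeros outside a given open. -/
theorem exists_pole (Z : Set X) (hZ : Z.Finite) (hZU : ∀ z ∈ Z, z ∉ U) (W : X.Opens)
    (hW : ∀ z ∈ Z, ∀ η, η ⤳ z → η ≠ z → η ∈ W) :
    ∃ c : Γ(X, U), X.basicOpen c ≤ W ∧ ∀ z ∈ Z, ∃ (V : X.Opens) (b : Γ(X, V)), z ∈ V ∧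
      (∀ p ∈ V, p ∉ U → p = z) ∧ z ∉ X.basicOpen b ∧
      ores (inf_le_left : V ⊓ U ≤ V) b * ores (inf_le_right : V ⊓ U ≤ U) c = 1 := by
  classical
  haveI := hZ.to_subtype
  haveI hdisc := discrete_compl U hd hgen
  let F : Set X := {η | ∃ z ∈ Z, η ⤳ z ∧ η ≠ z}
  have hF : F.Finite := by
    refine (hZ.biUnion fun z _ => ?_ : (⋃ z ∈ Z, Set.range (X.fromSpecStalk z)).Finite).subset ?_
    · haveI : Finite ↥(Spec (X.presheaf.stalk z)) := Pic18.finite_spec (hd z)
      exact Set.finite_range _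
    · rintro η ⟨z, hz, hs, -⟩
      exact Set.mem_biUnion hz ((Scheme.range_fromSpecStalk (x := z)).symm.subset hs)
  obtain ⟨e, heW, hFe⟩ := exists_basicOpen_finite hU hF W
    (fun η ⟨z, hz, hs, hne⟩ => Pic18.generization_mem U hdisc (hZU z hz) hs hne)
    (fun η ⟨z, hz, hs, hne⟩ => hW z hz η hs hne)
  choose J hJ w ha hb hc using fun z : Z => branches_at hd hU hgen (hZU z z.2)
  haveI : ∀ z, Finite (J z) := hJ
  obtain ⟨c, hc0⟩ := exists_mul_forall_gt_one (fun i : Σ z, J z => w i.1 i.2) (fun i => ha i.1 i.2) e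
    fun i => hb i.1 i.2 e fun η hs hne => hFe ⟨i.1, i.1.2, hs, hne⟩
  choose n V b hn hzV hV hzb hbc using fun z => hc z (e * c) fun j => hc0 ⟨z, j⟩
  haveI := Fintype.ofFinite Z
  let N := ∏ z, n z
  have hN : 0 < N := Finset.prod_pos fun z _ => hn z
  refine ⟨(e * c) ^ N, fun p hp => heW ?_, fun z hz => ?_⟩
  · have hpU : p ∈ U := X.basicOpen_le _ hp
    rw [X.mem_basicOpen _ p hpU, map_pow, isUnit_pow_iff hN.ne', map_mul, IsUnit.mul_iff] at hp
    exact (X.mem_basicOpen e p hpU).2 hp.1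
  · obtain ⟨m, hm⟩ : n ⟨z, hz⟩ ∣ N := Finset.dvd_prod_of_mem n (Finset.mem_univ _)
    have hm0 : m ≠ 0 := fun h => hN.ne' (by rw [hm, h, mul_zero])
    refine ⟨V ⟨z, hz⟩, b ⟨z, hz⟩ ^ m, hzV ⟨z, hz⟩, hV ⟨z, hz⟩, fun h => hzb ⟨z, hz⟩ ?_, ?_⟩
    · rw [X.mem_basicOpen _ _ (hzV ⟨z, hz⟩), map_pow, isUnit_pow_iff hm0] at h
      exact (X.mem_basicOpen _ _ (hzV ⟨z, hz⟩)).2 h
    · rw [hm, map_pow, map_pow, pow_mul, ← mul_pow, hbc, one_pow]

include hd hU hgen in
/-- Adding one point to an affine open. -/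
theorem exists_affine_insert (T : Set X) (hT : T.Finite) (hTU : T ⊆ U) {z : X} (hz : z ∉ U) :
    ∃ U' : X.Opens, IsAffineOpen U' ∧ z ∈ U' ∧ T ⊆ U' := by
  classical
  haveI hdisc := discrete_compl U hd hgen
  obtain ⟨V, hV, hzV, -⟩ := exists_isAffineOpen_mem_and_subset (U := (⊤ : X.Opens)) (x := z) trivial
  let T' : Set X := {t ∈ T | ¬ t ⤳ z}
  have hcl : IsClosed (⋃ t ∈ T', closure ({t} : Set X)) :=
    (hT.subset fun t ht => ht.1).isClosed_biUnion fun _ _ => isClosed_closure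
  let W : X.Opens := U ⊓ V ⊓ ⟨_, hcl.isOpen_compl⟩
  obtain ⟨c, hcW, hc⟩ := exists_pole hd hU hgen {z} (Set.finite_singleton z) (fun y hy => hy ▸ hz) W
    fun y hy η hη hne => by
      obtain rfl : y = z := hy
      refine ⟨⟨Pic18.generization_mem U hdisc hz hη hne, hη.mem_open V.2 hzV⟩, fun hmem => ?_⟩
      obtain ⟨t, ht, htη⟩ := Set.mem_iUnion₂.1 hmem
      have hs : t ⤳ η := specializes_iff_mem_closure.2 htη
      exact ht.2 (hs.trans hη)
  obtain ⟨V₁, b, hzV₁, hV₁, hzb, hbc⟩ := hc z rfl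
  let U₁ : X.Opens := X.basicOpen (1 + c)
  have hU₁U : U₁ ≤ U := X.basicOpen_le _
  have hz1b : z ∈ X.basicOpen (1 + b) := by
    rw [X.mem_basicOpen _ z hzV₁, map_add, map_one]
    by_contra h
    have h2 := sub_mem ((IsLocalRing.mem_maximalIdeal _).2 h)
      ((IsLocalRing.mem_maximalIdeal _).2 fun hu => hzb ((X.mem_basicOpen b z hzV₁).2 hu))
    rw [add_sub_cancel_right] at h2
    exact h2 isUnit_one
  obtain ⟨V₂, hV₂, hzV₂, hV₂le⟩ :=
    exists_isAffineOpen_mem_and_subset (U := X.basicOpen (1 + b) ⊓ V) (x := z) ⟨hz1b, hzV⟩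
  have hV₂b : V₂ ≤ X.basicOpen (1 + b) := fun p hp => (hV₂le hp).1
  have hV₂1 : V₂ ≤ V₁ := hV₂b.trans (X.basicOpen_le _)
  -- pointwise relation on the overlap
  have hrel : ∀ p (hp1 : p ∈ V₁) (hpU : p ∈ U),
      X.presheaf.germ V₁ p hp1 b * X.presheaf.germ U p hpU c = 1 := fun p hp1 hpU => by
    have := congrArg (X.presheaf.germ (V₁ ⊓ U) p ⟨hp1, hpU⟩) hbc
    simpa only [ores, map_mul, map_one, TopCat.Presheaf.germ_res_apply] using this
  have hV₂U₁ : ∀ p ∈ V₂, p ∈ U → p ∈ U₁ := fun p hp hpU => by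
    rw [X.mem_basicOpen _ p hpU, map_add, map_one]
    have h1 := (X.mem_basicOpen _ p (hV₂1 hp)).1 (hV₂b hp)
    rw [map_add, map_one] at h1
    have h2 := hrel p (hV₂1 hp) hpU
    rw [mul_comm] at h2
    rw [show 1 + X.presheaf.germ U p hpU c =
      X.presheaf.germ U p hpU c * (1 + X.presheaf.germ V₁ p (hV₂1 hp) b) by rw [mul_add, h2, mul_one, add_comm]]
    exact (IsUnit.of_mul_eq_one _ h2).mul h1
  have hu₁ : IsUnit (ores hU₁U (1 + c)) := X.toRingedSpace.isUnit_res_basicOpen _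
  have hu₂ : IsUnit (ores hV₂1 (1 + b)) := by
    rw [← M1.ores_ores (X.basicOpen_le (1 + b)) hV₂b]
    exact (show IsUnit (ores (X.basicOpen_le (1 + b)) (1 + b)) from
      X.toRingedSpace.isUnit_res_basicOpen (1 + b)).map _
  obtain ⟨e₁, he₁⟩ := hu₁.exists_left_inv
  obtain ⟨e₂, he₂⟩ := hu₂.exists_left_inv
  have g₁ : ∀ p (hp : p ∈ U₁),
      X.presheaf.germ U₁ p hp e₁ * (1 + X.presheaf.germ U p (hU₁U hp) c) = 1 := fun p hp => by
    have := congrArg (X.presheaf.germ U₁ p hp) he₁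
    simpa only [ores, map_mul, map_add, map_one, TopCat.Presheaf.germ_res_apply] using this
  have g₂ : ∀ p (hp : p ∈ V₂),
      X.presheaf.germ V₂ p hp e₂ * (1 + X.presheaf.germ V₁ p (hV₂1 hp) b) = 1 := fun p hp => by
    have := congrArg (X.presheaf.germ V₂ p hp) he₂
    simpa only [ores, map_mul, map_add, map_one, TopCat.Presheaf.germ_res_apply] using this
  let O : Bool → X.Opens := fun i => cond i U₁ V₂
  let sec : ∀ i, Γ(X, O i) := fun i => match i with
    | true => e₁
    | false => ores hV₂1 b * e₂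
  have hagree : ∀ p (hp : p ∈ U₁) (hp' : p ∈ V₂),
      X.presheaf.germ U₁ p hp e₁ = X.presheaf.germ V₂ p hp' (ores hV₂1 b * e₂) := fun p hp hp' => by
    rw [map_mul, X.presheaf.germ_res_apply]
    refine (((X.mem_basicOpen _ p (hU₁U hp)).1 hp).mul_left_inj).1 ?_
    rw [map_add, map_one, g₁ p hp]
    linear_combination -(X.presheaf.germ V₂ p hp' e₂) * hrel p (hV₂1 hp') (hU₁U hp) - g₂ p hp'
  obtain ⟨e, he, -⟩ := X.sheaf.existsUnique_gluing' O (⨆ i, O i) (fun i => homOfLE (le_iSup O i)) le_rfl sec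
    fun i j => by
      refine TopCat.Presheaf.section_ext X.sheaf _ _ _ fun p hp => ?_
      change X.presheaf.germ _ p hp (X.presheaf.map _ (sec i)) = X.presheaf.germ _ p hp (X.presheaf.map _ (sec j))
      erw [X.presheaf.germ_res_apply, X.presheaf.germ_res_apply]
      cases i <;> cases j
      · rfl
      · exact (hagree p hp.2 hp.1).symm
      · exact hagree p hp.1 hp.2
      · rfl
  let e' : Γ(X, ⨆ i, O i) := e
  have ge₁ : ∀ p (hp : p ∈ U₁), X.presheaf.germ (⨆ i, O i) p (le_iSup O true hp) e' =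
      X.presheaf.germ U₁ p hp e₁ := fun p hp => by
    rw [← X.presheaf.germ_res_apply (homOfLE (le_iSup O true)) p hp]
    exact congrArg (X.presheaf.germ U₁ p hp) (he true)
  have ge₂ : ∀ p (hp : p ∈ V₂), X.presheaf.germ (⨆ i, O i) p (le_iSup O false hp) e' =
      X.presheaf.germ V₁ p (hV₂1 hp) b * X.presheaf.germ V₂ p hp e₂ := fun p hp => by
    rw [← X.presheaf.germ_res_apply (homOfLE (le_iSup O false)) p hp,
      ← X.presheaf.germ_res_apply (homOfLE hV₂1) p hp b, ← map_mul]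
    exact congrArg (X.presheaf.germ V₂ p hp) (he false)
  have hDe : X.basicOpen e' = U₁ := by
    ext p
    constructor
    · intro hp
      obtain ⟨i, hi⟩ := Opens.mem_iSup.1 (X.basicOpen_le e' hp)
      cases i
      · refine hV₂U₁ p hi ?_
        by_contra hpU
        obtain rfl := hV₁ p (hV₂1 hi) hpU
        have h := (X.mem_basicOpen e' p (le_iSup O false hi)).1 hp
        rw [ge₂ p hi] at h
        exact hzb ((X.mem_basicOpen b p hzV₁).2 (isUnit_of_mul_isUnit_left h))
      · exact hi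
    · intro hp
      refine (X.mem_basicOpen e' p (le_iSup O true hp)).2 ?_
      rw [ge₁ p hp]
      exact IsUnit.of_mul_eq_one _ (g₁ p hp)
  have hD1e : X.basicOpen (1 - e') ≤ V := fun p hp => by
    obtain ⟨i, hi⟩ := Opens.mem_iSup.1 (X.basicOpen_le _ hp)
    cases i
    · exact (hV₂le hi).2
    · have h := (X.mem_basicOpen _ p (le_iSup O true hi)).1 hp
      rw [map_sub, map_one, ge₁ p hi,
        show 1 - X.presheaf.germ U₁ p hi e₁ = X.presheaf.germ U₁ p hi e₁ * X.presheaf.germ U p (hU₁U hi) c by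
          linear_combination -(g₁ p hi)] at h
      exact (hcW ((X.mem_basicOpen c p (hU₁U hi)).2 (isUnit_of_mul_isUnit_right h))).1.2
  refine ⟨⨆ i, O i, isAffineOpen_of_isAffineOpen_basicOpen _ {e', 1 - e'} ?_ ?_,
    le_iSup O false hzV₂, fun t ht => ?_⟩
  · have h := Ideal.add_mem (Ideal.span ({e', 1 - e'} : Set Γ(X, ⨆ i, O i)))
      (Ideal.subset_span (Set.mem_insert e' {1 - e'}))
      (Ideal.subset_span (Set.mem_insert_of_mem e' (Set.mem_singleton (1 - e'))))
    rw [add_sub_cancel] at h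
    exact (Ideal.eq_top_iff_one _).2 h
  · rintro _ (rfl | rfl)
    · rw [hDe]; exact hU.basicOpen _
    · exact isAffineOpen_of_le hd hV hD1e
  · refine le_iSup O true ?_
    show t ∈ X.basicOpen (1 + c)
    by_cases htz : t ⤳ z
    · exact hV₂U₁ t (htz.mem_open V₂.2 hzV₂) (hTU ht)
    · rw [X.mem_basicOpen _ t (hTU ht), map_add, map_one]
      by_contra hnu
      have hnc : ¬ IsUnit (X.presheaf.germ U t (hTU ht) c) := fun hu => by
        have hmem := (hcW ((X.mem_basicOpen c t (hTU ht)).2 hu)).2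
        exact hmem (Set.mem_biUnion (show t ∈ T' from ⟨ht, htz⟩) (subset_closure rfl))
      have h2 := sub_mem ((IsLocalRing.mem_maximalIdeal _).2 hnu) ((IsLocalRing.mem_maximalIdeal _).2 hnc)
      rw [add_sub_cancel_right] at h2
      exact h2 isUnit_one

include hd in
/-- Every finite set of points lies in an affine open containing all generic points. -/
theorem exists_affine_finite (T : Set X) (hT : T.Finite) :
    ∃ U : X.Opens, IsAffineOpen U ∧ T ⊆ U ∧ ∀ η : X, (∀ b, b ⤳ η → b = η) → η ∈ U := by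
  obtain ⟨U₀, G, hU₀, hG, hGU, hmin⟩ := exists_affine_generic (X := X)
  suffices H : ∃ U : X.Opens, IsAffineOpen U ∧ T ∪ G ⊆ U by
    obtain ⟨U, hU, hle⟩ := H
    exact ⟨U, hU, fun t ht => hle (Or.inl ht), fun η hη => hle (Or.inr (hmin η hη))⟩
  induction T, hT using Set.Finite.induction_on with
  | empty => exact ⟨U₀, hU₀, by simpa using hGU⟩
  | @insert z T _ hTfin ih =>
    obtain ⟨U, hU, hle⟩ := ih
    by_cases hz : z ∈ U
    · exact ⟨U, hU, by rw [Set.insert_union]; exact Set.insert_subset hz hle⟩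
    obtain ⟨U', hU', hzU', hle'⟩ := exists_affine_insert hd hU (fun η hη => hle (Or.inr (hmin η hη))) (T ∪ G)
      (hTfin.union hG) hle hz
    exact ⟨U', hU', by rw [Set.insert_union]; exact Set.insert_subset hzU' hle'⟩

end Groth.Agent.PoleOne18
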