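import Groth.Agent.Lib.KrullAkizuki.DVR
import Mathlib.RingTheory.Localization.Away.Basic
import Mathlib.RingTheory.DedekindDomain.Factorization
import Mathlib.RingTheory.Ideal.GoingUp
import Mathlib.RingTheory.Nilpotent.Lemmas

/-!
# Poles at a one-dimensional Noetherian local ring

For `f` in a one-dimensional Noetherian local ring `R` cutting out the closed point, the branches are the
maximal ideals of the integral closures of the `R/q`, `q` minimal; an element of `R[1/f]` with a pole on every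
branch has a power which is inverse to an element of the maximal ideal.
-/

set_option autoImplicit false
set_option linter.style.haveILetI false
universe u

open IsLocalRing IsDedekindDomain
open scoped WithZero

namespace Groth.Agent.PoleOne18

variable (R : Type u) [CommRing R] [IsLocalRing R] [IsNoetherianRing R]

/-- A parameter of a local ring of dimension at most one. -/
structure Param where
  f : R
  dim : ringKrullDim R ≤ 1
  mem : f ∈ maximalIdeal R
  eq_max : ∀ q : Ideal R, q.IsPrime → f ∈ q → q = maximalIdeal R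

namespace Param

variable {R} (P : Param R)

/-- The primes away from the parameter. -/
abbrev Idx : Type u := {q : PrimeSpectrum R // P.f ∉ q.asIdeal}

/-- The function field at such a prime. -/
abbrev K (q : P.Idx) : Type u := FractionRing (R ⧸ q.1.asIdeal)

/-- Its integral closure. -/
abbrev C (q : P.Idx) : Subalgebra (R ⧸ q.1.asIdeal) (P.K q) := integralClosure (R ⧸ q.1.asIdeal) (P.K q)

instance (q : P.Idx) : IsDedekindDomain (P.C q) := by
  haveI : Ring.KrullDimLE 1 (R ⧸ q.1.asIdeal) := Ring.krullDimLE_iff.2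
    ((ringKrullDim_le_of_surjective _ (Ideal.Quotient.mk_surjective (I := q.1.asIdeal))).trans P.dim)
  exact KrullAkizuki.isDedekindDomain_integralClosure (R ⧸ q.1.asIdeal) (P.K q) (P.K q)

instance (q : P.Idx) : IsFractionRing (P.C q) (P.K q) :=
  integralClosure.isFractionRing_of_finite_extension (P.K q) (P.K q)

theorem map_f_ne_zero (q : P.Idx) : algebraMap R (P.K q) P.f ≠ 0 := fun h => q.2 <| by
  rw [IsScalarTower.algebraMap_apply R (R ⧸ q.1.asIdeal) (P.K q),
    map_eq_zero_iff _ (IsFractionRing.injective (R ⧸ q.1.asIdeal) (P.K q))] at h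
  exact Ideal.Quotient.eq_zero_iff_mem.1 h

/-- Evaluation in the function field. -/
noncomputable def ev (q : P.Idx) : Localization.Away P.f →+* P.K q :=
  IsLocalization.Away.lift P.f (g := algebraMap R (P.K q)) (IsUnit.mk0 _ (P.map_f_ne_zero q))

theorem ev_algebraMap (q : P.Idx) (r : R) : P.ev q (algebraMap R _ r) = algebraMap R (P.K q) r :=
  IsLocalization.Away.lift_eq P.f _ r

theorem ev_aux (q : P.Idx) (r : R) : algebraMap R (P.K q) r = 0 ↔ r ∈ q.1.asIdeal := by
  rw [IsScalarTower.algebraMap_apply R (R ⧸ q.1.asIdeal) (P.K q),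
    map_eq_zero_iff _ (IsFractionRing.injective (R ⧸ q.1.asIdeal) (P.K q))]
  exact Ideal.Quotient.eq_zero_iff_mem

/-- The branches. -/
def Br : Type u := Σ q : P.Idx, HeightOneSpectrum (P.C q)

/-- The valuation of a branch. -/
noncomputable def val (j : P.Br) : Valuation (Localization.Away P.f) ℤᵐ⁰ :=
  (j.2.valuation (P.K j.1)).comap (P.ev j.1)

/-- The map to the integral closure. -/
noncomputable def toC (q : P.Idx) : R →+* P.C q :=
  (algebraMap (R ⧸ q.1.asIdeal) (P.C q)).comp (Ideal.Quotient.mk _)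

theorem coe_toC (q : P.Idx) (r : R) : ((P.toC q r : P.C q) : P.K q) = algebraMap R (P.K q) r := rfl

theorem comap_toC (q : P.Idx) (v : HeightOneSpectrum (P.C q)) :
    v.asIdeal.comap (P.toC q) = maximalIdeal R := by
  haveI := v.isPrime
  refine P.eq_max _ inferInstance ?_
  have hne : v.asIdeal.comap (algebraMap (R ⧸ q.1.asIdeal) (P.C q)) ≠ ⊥ := by
    obtain ⟨x, hx, hx0⟩ := Submodule.exists_mem_ne_zero_of_ne_bot v.ne_bot
    exact Ideal.comap_ne_bot_of_integral_mem hx0 hx (Algebra.IsIntegral.isIntegral x)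
  obtain ⟨d, hd, hd0⟩ := Submodule.exists_mem_ne_zero_of_ne_bot hne
  obtain ⟨r, rfl⟩ := Ideal.Quotient.mk_surjective d
  have hr : r ∈ v.asIdeal.comap (P.toC q) := hd
  have hrq : r ∉ q.1.asIdeal := fun h => hd0 (Ideal.Quotient.eq_zero_iff_mem.2 h)
  by_contra hf
  -- a prime strictly between `q` and the maximal ideal
  haveI : Ring.KrullDimLE 1 R := Ring.krullDimLE_iff.2 P.dim
  have hle : q.1.asIdeal ≤ v.asIdeal.comap (P.toC q) := fun s hs => by
    show P.toC q s ∈ v.asIdeal
    rw [show P.toC q s = 0 from by simp [toC, Ideal.Quotient.eq_zero_iff_mem.2 hs]]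
    exact zero_mem _
  rcases Ring.krullDimLE_one_iff.1 inferInstance (v.asIdeal.comap (P.toC q)) inferInstance with hmin | hmax
  · exact hrq (hmin.2 ⟨q.1.isPrime, bot_le⟩ hle hr)
  · exact hf (IsLocalRing.eq_maximalIdeal hmax ▸ P.mem)

theorem f_mem (q : P.Idx) (v : HeightOneSpectrum (P.C q)) : P.toC q P.f ∈ v.asIdeal := by
  have := (P.comap_toC q v).ge P.mem
  exact this

instance finite_idx : Finite P.Idx := by
  haveI : Ring.KrullDimLE 1 R := Ring.krullDimLE_iff.2 P.dim
  have hle : ∀ q : P.Idx, q.1.asIdeal ∈ minimalPrimes R := fun q => by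
    refine (Ring.krullDimLE_one_iff.1 inferInstance q.1.asIdeal q.1.isPrime).resolve_right fun h => ?_
    exact q.2 (IsLocalRing.eq_maximalIdeal h ▸ P.mem)
  haveI := (minimalPrimes.finite_of_isNoetherianRing R).to_subtype
  exact Finite.of_injective (fun q : P.Idx => (⟨_, hle q⟩ : minimalPrimes R))
    fun a b h => Subtype.ext (PrimeSpectrum.ext (congrArg Subtype.val h))

theorem not_isField (q : P.Idx) : ¬ IsField (P.C q) := fun hF => by
  have hD : IsField (R ⧸ q.1.asIdeal) := isField_of_isIntegral_of_isField (S := P.C q)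
    (fun a b h => IsFractionRing.injective (R ⧸ q.1.asIdeal) (P.K q) (congrArg Subtype.val h)) hF
  exact q.2 (IsLocalRing.eq_maximalIdeal (Ideal.Quotient.maximal_of_isField q.1.asIdeal hD) ▸ P.mem)

theorem finite_br : Finite P.Br := by
  haveI : ∀ q : P.Idx, Finite (HeightOneSpectrum (P.C q)) := fun q => by
    have h0 : P.toC q P.f ≠ 0 := fun h => P.map_f_ne_zero q (by rw [← P.coe_toC, h]; rfl)
    have hI : Ideal.span {P.toC q P.f} ≠ 0 := by
      simpa [Ideal.zero_eq_bot, Ideal.span_singleton_eq_bot] using h0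
    have hfin := Ideal.finite_factors hI
    haveI : Finite {v : HeightOneSpectrum (P.C q) // v.asIdeal ∣ Ideal.span {P.toC q P.f}} := hfin.to_subtype
    exact Finite.of_injective (fun v : HeightOneSpectrum (P.C q) =>
      (⟨v, Ideal.dvd_iff_le.2 ((Ideal.span_singleton_le_iff_mem _).2 (P.f_mem q v))⟩ :
        {v : HeightOneSpectrum (P.C q) // v.asIdeal ∣ Ideal.span {P.toC q P.f}})) fun a b h => congrArg Subtype.val h
  unfold Br
  infer_instance

theorem val_algebraMap_le_one (j : P.Br) (r : R) : P.val j (algebraMap R _ r) ≤ 1 := by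
  show j.2.valuation (P.K j.1) (P.ev j.1 (algebraMap R _ r)) ≤ 1
  rw [P.ev_algebraMap, ← P.coe_toC]
  exact j.2.valuation_le_one (P.toC j.1 r)

theorem val_algebraMap_lt_one_iff (j : P.Br) (r : R) :
    P.val j (algebraMap R _ r) < 1 ↔ r ∈ maximalIdeal R := by
  show j.2.valuation (P.K j.1) (P.ev j.1 (algebraMap R _ r)) < 1 ↔ _
  rw [P.ev_algebraMap, ← P.coe_toC, ← P.comap_toC j.1 j.2]
  exact j.2.valuation_lt_one_iff_mem (P.toC j.1 r)

/-- An element with poles on all branches is, up to a power, inverse to an element of the maximal ideal. -/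
theorem exists_mul_pow_eq_one (γ : Localization.Away P.f) (hγ : ∀ j, 1 < P.val j γ) :
    ∃ (n : ℕ) (b : R), 0 < n ∧ b ∈ maximalIdeal R ∧ algebraMap R (Localization.Away P.f) b * γ ^ n = 1 := by
  classical
  let S := Localization.Away P.f
  haveI : IsNoetherianRing S := IsLocalization.isNoetherianRing (Submonoid.powers P.f) S inferInstance
  -- the prime of `R` below a prime of `R[1/f]`
  have hprime : ∀ 𝔭 : Ideal S, 𝔭.IsPrime → ∃ q : P.Idx, RingHom.ker (P.ev q) = 𝔭 := by
    intro 𝔭 h𝔭
    have h := (IsLocalization.isPrime_iff_isPrime_disjoint (Submonoid.powers P.f) S 𝔭).1 h𝔭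
    refine ⟨⟨⟨_, h.1⟩, fun hf => Set.disjoint_left.1 h.2 ⟨1, pow_one _⟩ hf⟩, ?_⟩
    ext s
    obtain ⟨r, ⟨_, n, rfl⟩, rfl⟩ := IsLocalization.exists_mk'_eq (Submonoid.powers P.f) s
    rw [RingHom.mem_ker, IsLocalization.mk'_mem_iff, ev, IsLocalization.Away.lift,
      IsLocalization.lift_mk'_spec, mul_zero]
    exact P.ev_aux _ r
  -- integrality of the inverse in each function field
  have hint : ∀ q : P.Idx, IsIntegral R (P.ev q γ)⁻¹ ∧ P.ev q γ ≠ 0 := by
    intro q
    have hne : P.ev q γ ≠ 0 := by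
      intro h0
      obtain ⟨M, hM⟩ := Ideal.exists_maximal (P.C q)
      have hM0 : M ≠ ⊥ := Ring.ne_bot_of_isMaximal_of_not_isField hM (P.not_isField q)
      have := hγ ⟨q, ⟨M, hM.isPrime, hM0⟩⟩
      simp [val, h0] at this
    refine ⟨?_, hne⟩
    obtain ⟨c, hc⟩ := HeightOneSpectrum.mem_integers_of_valuation_le_one (R := P.C q) (P.K q) (P.ev q γ)⁻¹
      fun v => by rw [map_inv₀]; exact inv_le_one_of_one_le₀ (hγ ⟨q, v⟩).le
    rw [← hc]
    haveI : Algebra.IsIntegral R (R ⧸ q.1.asIdeal) := inferInstance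
    exact isIntegral_trans (R := R) (A := R ⧸ q.1.asIdeal) _ c.2
  -- the inverse in `R[1/f]`
  have hγu : IsUnit γ := by
    by_contra hu
    obtain ⟨𝔭, h𝔭, hmem⟩ := exists_max_ideal_of_mem_nonunits hu
    obtain ⟨q, hq⟩ := hprime 𝔭 h𝔭.isPrime
    exact (hint q).2 (RingHom.mem_ker.1 (hq.symm ▸ hmem))
  obtain ⟨β, hβ⟩ := hγu.exists_left_inv
  have hβev : ∀ q, P.ev q β = (P.ev q γ)⁻¹ := fun q =>
    eq_inv_of_mul_eq_one_left (by rw [← map_mul, hβ, map_one])
  have hβint : IsIntegral R β := by
    haveI : Fintype P.Idx := Fintype.ofFinite _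
    choose p hpm hp0 using fun q => (hint q).1
    let F : Polynomial R := ∏ q, p q
    have hF : F.Monic := Polynomial.monic_prod_of_monic _ _ fun q _ => hpm q
    have hnil : IsNilpotent (Polynomial.aeval β F) := by
      rw [nilpotent_iff_mem_prime]
      intro 𝔭 h𝔭
      obtain ⟨q, rfl⟩ := hprime 𝔭 h𝔭
      rw [map_prod]
      refine Ideal.mem_of_dvd _ (Finset.dvd_prod_of_mem (fun i => Polynomial.aeval β (p i)) (Finset.mem_univ q)) ?_
      rw [RingHom.mem_ker, Polynomial.aeval_def, Polynomial.hom_eval₂, hβev,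
        show (P.ev q).comp (algebraMap R S) = algebraMap R (P.K q) from RingHom.ext fun r => P.ev_algebraMap q r]
      exact hp0 q
    obtain ⟨N, hN⟩ := hnil
    exact ⟨F ^ N, hF.pow N, by rw [← Polynomial.aeval_def, map_pow]; exact hN⟩
  let B : Subalgebra R S := Algebra.adjoin R {β}
  haveI : Module.Finite R B := Module.Finite.iff_fg.2 hβint.fg_adjoin_singleton
  haveI : Algebra.IsIntegral R B := Algebra.IsIntegral.of_finite R B
  let βB : B := ⟨β, Algebra.subset_adjoin rfl⟩
  have hrad : βB ∈ (Ideal.span {algebraMap R B P.f}).radical := by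
    rw [Ideal.radical_eq_sInf, Submodule.mem_sInf]
    rintro Q ⟨hQf, hQ⟩
    have hfQ : algebraMap R B P.f ∈ Q := hQf (Ideal.mem_span_singleton_self _)
    obtain ⟨q₀, hq₀, hq₀Q⟩ := Ideal.exists_minimalPrimes_le (bot_le (a := Q))
    haveI := hq₀.1.1
    obtain ⟨𝔭, h𝔭, -, h𝔭B⟩ := Ideal.exists_comap_eq_of_mem_minimalPrimes (I := (⊥ : Ideal S)) B.val.toRingHom q₀
      (by rwa [show (⊥ : Ideal S).comap B.val.toRingHom = ⊥ from
        (RingHom.injective_iff_ker_eq_bot _).1 Subtype.val_injective])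
    obtain ⟨q, rfl⟩ := hprime 𝔭 h𝔭
    -- the map of `B` to the integral closure
    have hmemC : ∀ b : B, P.ev q b.1 ∈ P.C q := fun b => by
      have h1 : IsIntegral R (P.ev q b.1) := by
        have hb : IsIntegral R b.1 := (Algebra.IsIntegral.isIntegral b).map B.val
        obtain ⟨g, hg, hg0⟩ := hb
        refine ⟨g, hg, ?_⟩
        have := congrArg (P.ev q) hg0
        rwa [Polynomial.hom_eval₂, map_zero,
          show (P.ev q).comp (algebraMap R S) = algebraMap R (P.K q) from RingHom.ext fun r => P.ev_algebraMap q r]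
          at this
      exact h1.tower_top
    let θ : B →+* P.C q := ((P.ev q).comp B.val.toRingHom).codRestrict (P.C q) hmemC
    letI := θ.toAlgebra
    haveI : Algebra.IsIntegral B (P.C q) := ⟨fun c => by
      haveI : IsScalarTower R B (P.C q) := IsScalarTower.of_algebraMap_eq fun r => Subtype.ext (by
        show algebraMap R (P.K q) r = P.ev q (algebraMap R S r)
        rw [P.ev_algebraMap])
      have hc : IsIntegral R c := by
        haveI : Algebra.IsIntegral R (R ⧸ q.1.asIdeal) := inferInstance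
        exact isIntegral_trans (R := R) (A := R ⧸ q.1.asIdeal) c (Algebra.IsIntegral.isIntegral c)
      exact hc.tower_top⟩
    obtain ⟨M, -, hM, hMQ⟩ := Ideal.exists_ideal_over_prime_of_isIntegral (S := P.C q) Q ⊥ (fun b hb => hq₀Q (by
      rw [← h𝔭B]
      have : θ b = 0 := hb
      exact congrArg Subtype.val this))
    have hMf : P.toC q P.f ∈ M := by
      have : algebraMap R B P.f ∈ M.comap (algebraMap B (P.C q)) := hMQ.ge hfQ
      have e : θ (algebraMap R B P.f) = P.toC q P.f := Subtype.ext (by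
        show P.ev q (algebraMap R S P.f) = algebraMap R (P.K q) P.f
        rw [P.ev_algebraMap])
      rwa [Ideal.mem_comap, RingHom.algebraMap_toAlgebra, e] at this
    let v : HeightOneSpectrum (P.C q) := ⟨M, hM, fun h => P.map_f_ne_zero q (by
      rw [h, Ideal.mem_bot] at hMf
      rw [← P.coe_toC, hMf]; rfl)⟩
    rw [← hMQ]
    show θ βB ∈ v.asIdeal
    rw [← v.valuation_lt_one_iff_mem (K := P.K q)]
    show v.valuation (P.K q) (P.ev q β) < 1
    rw [hβev, map_inv₀]
    exact inv_lt_one_of_one_lt₀ (hγ ⟨q, v⟩)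
  obtain ⟨m, hm⟩ := hrad
  obtain ⟨T, hT⟩ := (Module.Finite.iff_fg (N := Subalgebra.toSubmodule B)).1 (inferInstance : Module.Finite R B)
  obtain ⟨⟨_, k, rfl⟩, hk⟩ := IsLocalization.exist_integer_multiples_of_finset (Submonoid.powers P.f) T
  have hBk : ∀ b : B, ∃ r : R, algebraMap R S r = algebraMap R S (P.f ^ k) * b.1 := by
    intro b
    have hb : b.1 ∈ Submodule.span R (T : Set S) := by rw [hT]; exact b.2
    refine Submodule.span_induction (fun x hx => ?_) ⟨0, by simp⟩ ?_ ?_ hb
    · obtain ⟨r, hr⟩ := hk x hx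
      exact ⟨r, hr.trans (Algebra.smul_def _ _)⟩
    · rintro x y - - ⟨r, hr⟩ ⟨r', hr'⟩
      exact ⟨r + r', by rw [map_add, hr, hr', mul_add]⟩
    · rintro a x - ⟨r, hr⟩
      exact ⟨a * r, by rw [map_mul, hr, Algebra.smul_def]; ring⟩
  obtain ⟨c, hc⟩ := Ideal.mem_span_singleton'.1 hm
  obtain ⟨r, hr⟩ := hBk ((βB * c) ^ (k + 1))
  refine ⟨(m + 1) * (k + 1), P.f * r, Nat.mul_pos m.succ_pos k.succ_pos, Ideal.mul_mem_right _ _ P.mem, ?_⟩
  have e : c.1 * algebraMap R S P.f = β ^ m := congrArg Subtype.val hc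
  have e1 : algebraMap R S (P.f * r) = β ^ ((m + 1) * (k + 1)) := by
    rw [map_mul, hr, pow_mul, pow_succ β, ← e]
    simp only [map_pow, SubmonoidClass.coe_pow, MulMemClass.coe_mul, βB]
    ring
  rw [e1, ← mul_pow, hβ, one_pow]

end Param

end Groth.Agent.PoleOne18
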