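import Mathlib.RingTheory.Valuation.Basic
import Mathlib.Algebra.GroupWithZero.WithZero
import Mathlib.GroupTheory.ArchimedeanDensely

/-!
# A single element with poles at finitely many valuations
-/

set_option autoImplicit false
universe u v

open scoped WithZero

namespace Groth.Agent.PoleOne18

variable {A : Type u} [CommRing A] {ι : Type v} (w : ι → Valuation A ℤᵐ⁰)

theorem exists_pow_gt (v : Valuation A ℤᵐ⁰) {c : A} (hc : 1 < v c) (x : ℤᵐ⁰) :
    ∃ N : ℕ, ∀ n, N ≤ n → x < v (c ^ n) := by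
  by_cases hx : x = 0
  · exact ⟨0, fun n _ => by rw [hx, map_pow]; exact pow_pos (zero_lt_one.trans hc) n⟩
  obtain ⟨N, hN⟩ := exists_pow_lt₀ (inv_lt_one_of_one_lt₀ hc) (Units.mk0 x⁻¹ (inv_ne_zero hx))
  refine ⟨N, fun n hn => lt_of_lt_of_le ?_ (le_of_le_of_eq (pow_le_pow_right₀ hc.le hn) (map_pow v c n).symm)⟩
  rw [Units.val_mk0, inv_pow] at hN
  exact (inv_lt_inv₀ (pow_pos (zero_lt_one.trans hc) N) (zero_lt_iff.2 hx)).1 hN

/-- Combine poles. -/
theorem exists_forall_gt_one [Finite ι] (h : ∀ i, ∃ a, 1 < w i a) : ∃ c : A, ∀ i, 1 < w i c := by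
  classical
  haveI := Fintype.ofFinite ι
  suffices H : ∀ s : Finset ι, ∃ c : A, ∀ i ∈ s, 1 < w i c by
    obtain ⟨c, hc⟩ := H Finset.univ
    exact ⟨c, fun i => hc i (Finset.mem_univ i)⟩
  intro s
  induction s using Finset.induction with
  | empty => exact ⟨0, by simp⟩
  | insert i s _ ih =>
    obtain ⟨c, hc⟩ := ih
    by_cases hci : 1 < w i c
    · exact ⟨c, fun j hj => (Finset.mem_insert.1 hj).elim (fun e => e ▸ hci) (hc j)⟩
    obtain ⟨a, ha⟩ := h i
    have hs : ∀ j : s, ∃ N : ℕ, ∀ n, N ≤ n → max (w j.1 a) 1 < w j.1 (c ^ n) := fun j =>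
      exists_pow_gt (w j.1) (hc j.1 j.2) _
    choose N hN using hs
    let n := Finset.univ.sup N
    refine ⟨c ^ n + a, fun j hj => ?_⟩
    rcases Finset.mem_insert.1 hj with rfl | hj
    · have h1 : w j (c ^ n) ≤ 1 := by rw [map_pow]; exact pow_le_one₀ zero_le (not_lt.1 hci)
      rw [(w j).map_add_eq_of_lt_right (h1.trans_lt ha)]
      exact ha
    · have h1 := hN ⟨j, hj⟩ n (Finset.le_sup (Finset.mem_univ _))
      rw [(w j).map_add_eq_of_lt_left ((le_max_left _ _).trans_lt h1)]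
      exact (le_max_right _ _).trans_lt h1

/-- Combine poles inside a given multiple. -/
theorem exists_mul_forall_gt_one [Finite ι] (h : ∀ i, ∃ a, 1 < w i a) (e : A) (he : ∀ i, w i e ≠ 0) :
    ∃ c : A, ∀ i, 1 < w i (e * c) := by
  haveI := Fintype.ofFinite ι
  obtain ⟨c, hc⟩ := exists_forall_gt_one w h
  choose N hN using fun i => exists_pow_gt (w i) (hc i) (w i e)⁻¹
  refine ⟨c ^ Finset.univ.sup N, fun i => ?_⟩
  rw [map_mul]
  exact (inv_lt_iff_one_lt_mul₀' (zero_lt_iff.2 (he i))).1 (hN i _ (Finset.le_sup (Finset.mem_univ i)))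

end Groth.Agent.PoleOne18
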