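import Groth.Agent.Lib.PoleOne18.Algebra
import Groth.Agent.Lib.PoleOne18.Combine
import Groth.Agent.Lib.Pic18.Birational

/-!
# Functions on an affine open with poles at given points outside
-/

set_option autoImplicit false
set_option linter.style.haveILetI false
universe u

open CategoryTheory AlgebraicGeometry TopologicalSpace Opposite IsDedekindDomain
open scoped WithZero

namespace Groth.Agent.PoleOne18

open Groth.Agent.M1 (ores)

variable {X : Scheme.{u}}

/-- If an open contains all the points without proper generizations of a one-dimensional Noetherian scheme, its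
complement is discrete. -/
theorem discrete_compl [IsNoetherian X] (U : X.Opens) (hd : ∀ y : X, ringKrullDim (X.presheaf.stalk y) ≤ 1)
    (hU : ∀ η : X, (∀ b, b ⤳ η → b = η) → η ∈ U) : DiscreteTopology ↥((U : Set X)ᶜ) := by
  have hclosedpt : ∀ y : X, y ∉ U → IsClosed ({y} : Set X) := fun y hy => by
    refine closure_subset_iff_isClosed.1 fun y' hy' => ?_
    have hs : y ⤳ y' := specializes_iff_mem_closure.2 hy'
    by_contra hne
    exact hy (hU y fun b hb => Pic18.eq_of_specializes (hd y') hs (fun h => hne h.symm) hb)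
  haveI : T1Space ↥((U : Set X)ᶜ) := ⟨fun x => by
    rw [show ({x} : Set ↥((U : Set X)ᶜ)) = Subtype.val ⁻¹' {x.1} from Set.ext fun z => Subtype.coe_inj.symm]
    exact (hclosedpt x.1 x.2).preimage continuous_subtype_val⟩
  haveI : Finite ↥((U : Set X)ᶜ) := by
    obtain ⟨S, hS, -, hSi, hUS⟩ :=
      NoetherianSpace.exists_finite_set_isClosed_irreducible (show IsClosed ((U : Set X)ᶜ) from U.2.isClosed_compl)
    refine Set.Finite.to_subtype ?_
    rw [hUS]
    refine hS.sUnion fun t ht => Set.Subsingleton.finite ?_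
    obtain ⟨ξ, hξ⟩ := QuasiSober.sober (hSi t ht).closure isClosed_closure
    have hξU : ξ ∈ (U : Set X)ᶜ :=
      closure_minimal ((Set.subset_sUnion_of_mem ht).trans hUS.symm.le) U.2.isClosed_compl
        (hξ.symm ▸ subset_closure rfl)
    intro a ha b hb
    have h1 : ∀ z ∈ t, z = ξ := fun z hz => by
      have : z ∈ closure ({ξ} : Set X) := hξ.symm ▸ subset_closure hz
      rwa [(hclosedpt ξ hξU).closure_eq] at this
    rw [h1 a ha, h1 b hb]
  infer_instance

/-- A function with given finitely many points in its basic open, inside a given open. -/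
theorem exists_basicOpen_finite {U : X.Opens} (hU : IsAffineOpen U) {F : Set X} (hF : F.Finite) (W : X.Opens)
    (hFU : F ⊆ U) (hFW : F ⊆ W) : ∃ e : Γ(X, U), X.basicOpen e ≤ W ∧ F ⊆ X.basicOpen e := by
  classical
  haveI := hF.to_subtype
  choose a ha hFa using fun η : F =>
    hU.exists_basicOpen_le (V := W) ⟨η.1, hFW η.2⟩ (hFU η.2)
  let Q : F → Ideal Γ(X, U) := fun η =>
    (IsLocalRing.maximalIdeal (X.presheaf.stalk η.1)).comap (X.presheaf.germ U η.1 (hFU η.2)).hom
  obtain ⟨e, heI, heF⟩ : ∃ e ∈ Ideal.span (Set.range a), ∀ η, e ∉ Q η := by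
    by_contra hcon
    push Not at hcon
    by_cases hne : Nonempty F
    · obtain ⟨η₀⟩ := hne
      have hsub : ((Ideal.span (Set.range a) : Ideal Γ(X, U)) : Set Γ(X, U)) ⊆
          ⋃ η ∈ (Set.univ : Set F), ((Q η : Ideal Γ(X, U)) : Set Γ(X, U)) := fun e he => by
        obtain ⟨η, h⟩ := hcon e he
        exact Set.mem_biUnion (Set.mem_univ η) h
      obtain ⟨η, -, hle⟩ := (Ideal.subset_union_prime_finite (Set.toFinite _) (f := Q) η₀ η₀
        fun η _ _ _ => inferInstance).1 hsub
      exact (X.mem_basicOpen (a η) η.1 (hFU η.2)).1 (hFa η) |>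
        (hle (Ideal.subset_span ⟨η, rfl⟩))
    · obtain ⟨η, -⟩ := hcon 0 (zero_mem _)
      exact hne ⟨η⟩
  refine ⟨e, fun z hz => ?_, fun η hη => (X.mem_basicOpen e η (hFU hη)).2 (not_not.1 (heF ⟨η, hη⟩))⟩
  have hzU : z ∈ U := X.basicOpen_le e hz
  by_contra hzW
  have hle : Ideal.span (Set.range a) ≤
      (IsLocalRing.maximalIdeal (X.presheaf.stalk z)).comap (X.presheaf.germ U z hzU).hom := by
    rw [Ideal.span_le]
    rintro _ ⟨η, rfl⟩ hu
    exact hzW (ha η ((X.mem_basicOpen (a η) z hzU).2 hu))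
  exact hle heI ((X.mem_basicOpen e z hzU).1 hz)

variable [IsNoetherian X] [X.IsSeparated] (hd : ∀ y : X, ringKrullDim (X.presheaf.stalk y) ≤ 1)
  {U : X.Opens} (hU : IsAffineOpen U) (hgen : ∀ η : X, (∀ b, b ⤳ η → b = η) → η ∈ U)

include hd hU hgen in
/-- The branches at a point outside an affine open. -/
theorem branches_at {z : X} (hz : z ∉ U) :
    ∃ (J : Type u) (_ : Finite J) (w : J → Valuation Γ(X, U) ℤᵐ⁰),
      (∀ j, ∃ a, 1 < w j a) ∧
      (∀ j (b : Γ(X, U)), (∀ η, η ⤳ z → η ≠ z → η ∈ X.basicOpen b) → w j b ≠ 0) ∧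
      ∀ c : Γ(X, U), (∀ j, 1 < w j c) → ∃ (n : ℕ) (V : X.Opens) (b : Γ(X, V)), 0 < n ∧ z ∈ V ∧
        (∀ p ∈ V, p ∉ U → p = z) ∧ z ∉ X.basicOpen b ∧
        ores (inf_le_left : V ⊓ U ≤ V) b * ores (inf_le_right : V ⊓ U ≤ U) c ^ n = 1 := by
  haveI hdisc := discrete_compl U hd hgen
  haveI : QuasiCompact U.ι := by
    haveI : CompactSpace U.toScheme := isCompact_iff_compactSpace.1 hU.isCompact
    exact quasiCompact_of_compactSpace _
  obtain ⟨A, h, hA, hzA, hAz, hAU, hhU⟩ := Pic18.exists_chart U hdisc hz (hd z) U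
    fun η hη hne => Pic18.generization_mem U hdisc hz hη hne
  have hzh : z ∉ X.basicOpen h := fun h' => hz (hhU h')
  let P : Param (X.presheaf.stalk z) :=
    { f := X.presheaf.germ A z hzA h
      dim := hd z
      mem := fun hu => hzh ((X.mem_basicOpen h z hzA).2 hu)
      eq_max := fun q hq hf => by
        have hnot : X.fromSpecStalk z ⟨q, hq⟩ ∉ X.basicOpen h := fun hc =>
          (Pic18.fromSpecStalk_mem_basicOpen_iff hzA h ⟨q, hq⟩).1 hc hf
        have hs : X.fromSpecStalk z ⟨q, hq⟩ ⤳ z := (Scheme.range_fromSpecStalk (x := z)).subset ⟨_, rfl⟩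
        have he : X.fromSpecStalk z ⟨q, hq⟩ = z := by
          refine hAz _ (hs.mem_open A.2 hzA) fun hU' => hnot ?_
          rw [← hAU]
          exact ⟨hs.mem_open A.2 hzA, hU'⟩
        exact congrArg PrimeSpectrum.asIdeal ((X.fromSpecStalk z).isEmbedding.injective
          (he.trans Scheme.fromSpecStalk_closedPoint.symm)) }
  let S := Localization.Away P.f
  letI : Algebra Γ(X, A) Γ(X, X.basicOpen h) := (ores (X.basicOpen_le h)).hom.toAlgebra
  haveI : IsLocalization.Away h Γ(X, X.basicOpen h) := hA.isLocalization_basicOpen h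
  let g : Γ(X, A) →+* S := (algebraMap (X.presheaf.stalk z) S).comp (X.presheaf.germ A z hzA).hom
  let Φ : Γ(X, X.basicOpen h) →+* S :=
    IsLocalization.Away.lift h (g := g) (IsLocalization.Away.algebraMap_isUnit P.f)
  have hΦ : ∀ a : Γ(X, A), Φ (ores (X.basicOpen_le h) a) = g a := fun a => IsLocalization.Away.lift_eq h _ a
  let ψ : Γ(X, U) →+* S := Φ.comp (ores hhU).hom
  haveI := P.finite_br
  refine ⟨P.Br, inferInstance, fun j => (P.val j).comap ψ, fun j => ?_, fun j b hb => ?_, fun c hc => ?_⟩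
  · -- otherwise two maps from the valuation ring to the separated scheme differ
    by_contra hcon
    push Not at hcon
    let K := P.K j.1
    let W : ValuationSubring K := (j.2.valuation K).valuationSubring
    let ρ : Γ(X, X.basicOpen h) →+* K := (P.ev j.1).comp Φ
    have hRW : ∀ r : X.presheaf.stalk z, algebraMap (X.presheaf.stalk z) K r ∈ W := fun r => by
      rw [← P.ev_algebraMap]
      exact P.val_algebraMap_le_one j r
    let π₁ : X.presheaf.stalk z →+* W := (algebraMap (X.presheaf.stalk z) K).codRestrict W hRW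
    have hπ₁ : IsLocalHom π₁ := ⟨fun r hr => by
      by_contra hnu
      have h1 := (P.val_algebraMap_lt_one_iff j r).2 hnu
      have h2 : (j.2.valuation K) (algebraMap (X.presheaf.stalk z) K r) = 1 := by
        obtain ⟨s, hs⟩ := hr.exists_right_inv
        have e : algebraMap (X.presheaf.stalk z) K r * (s : K) = 1 := congrArg Subtype.val hs
        have h3 := congrArg (j.2.valuation K) e
        rw [map_mul, map_one] at h3
        exact le_antisymm (hRW r) (by
          rw [← h3]
          exact mul_le_of_le_one_right' s.2)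
      rw [← P.ev_algebraMap] at h2
      exact absurd h1 (not_lt.2 h2.ge)⟩
    let π₂ : Γ(X, U) →+* W := ((P.ev j.1).comp ψ).codRestrict W fun a => hcon a
    let m₁ : Spec (CommRingCat.of W) ⟶ X := Spec.map (CommRingCat.ofHom π₁) ≫ X.fromSpecStalk z
    let m₂ : Spec (CommRingCat.of W) ⟶ X := Spec.map (CommRingCat.ofHom π₂) ≫ hU.fromSpec
    let ι₀ : Spec (CommRingCat.of K) ⟶ Spec (CommRingCat.of W) := Spec.map (CommRingCat.ofHom W.subtype)
    haveI : IsDominant ι₀ := ⟨by
      show DenseRange (PrimeSpectrum.comap W.subtype)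
      rw [PrimeSpectrum.denseRange_comap_iff_ker_le_nilRadical,
        (RingHom.injective_iff_ker_eq_bot _).1 Subtype.val_injective]
      exact bot_le⟩
    have hm : ι₀ ≫ m₁ = ι₀ ≫ m₂ := by
      have e1 : ι₀ ≫ m₁ = Spec.map (CommRingCat.ofHom ρ) ≫ (hA.basicOpen h).fromSpec := by
        rw [← hA.map_fromSpec (hA.basicOpen h) (homOfLE (X.basicOpen_le h)).op,
          show m₁ = Spec.map (CommRingCat.ofHom π₁) ≫ Spec.map (X.presheaf.germ A z hzA) ≫ hA.fromSpec from by
            simp only [m₁, ← hA.fromSpecStalk_eq_fromSpecStalk hzA]; rfl]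
        rw [← Spec.map_comp_assoc, ← Spec.map_comp_assoc, ← Spec.map_comp_assoc]
        congr 2
        ext a
        show algebraMap (X.presheaf.stalk z) K (X.presheaf.germ A z hzA a) = ρ (ores (X.basicOpen_le h) a)
        rw [← P.ev_algebraMap]
        exact congrArg (P.ev j.1) (hΦ a).symm
      have e2 : ι₀ ≫ m₂ = Spec.map (CommRingCat.ofHom ρ) ≫ (hA.basicOpen h).fromSpec := by
        rw [← hU.map_fromSpec (hA.basicOpen h) (homOfLE hhU).op]
        rw [← Spec.map_comp_assoc, ← Spec.map_comp_assoc]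
        rfl
      rw [e1, e2]
    have heq : m₁ = m₂ := ext_of_isDominant ι₀ hm
    have h1 : m₁ (IsLocalRing.closedPoint W) = z := by
      show X.fromSpecStalk z (PrimeSpectrum.comap π₁ (IsLocalRing.closedPoint W)) = z
      rw [IsLocalRing.comap_closedPoint]
      exact Scheme.fromSpecStalk_closedPoint
    have h2 : m₂ (IsLocalRing.closedPoint W) ∈ U := hU.range_fromSpec.le ⟨_, rfl⟩
    rw [← heq, h1] at h2
    exact hz h2
  · intro h0
    have hev : P.ev j.1 (ψ b) = 0 := (map_eq_zero (j.2.valuation (P.K j.1))).1 h0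
    let η := X.fromSpecStalk z j.1.1
    have hs : η ⤳ z := (Scheme.range_fromSpecStalk (x := z)).subset ⟨_, rfl⟩
    have hne : η ≠ z := fun e => j.1.2 (by
      have := (X.fromSpecStalk z).isEmbedding.injective (e.trans Scheme.fromSpecStalk_closedPoint.symm)
      rw [this]
      exact P.mem)
    have hηb := hb η hs hne
    have hηh : η ∈ X.basicOpen h := (Pic18.fromSpecStalk_mem_basicOpen_iff hzA h j.1.1).2 j.1.2
    obtain ⟨n, a, ha⟩ := IsLocalization.Away.surj h (ores hhU b)
    have ha' : ores hhU b * ores (X.basicOpen_le h) h ^ n = ores (X.basicOpen_le h) a := ha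
    have hηa : η ∈ X.basicOpen a := by
      have e := congrArg (X.presheaf.germ _ η hηh) ha'
      simp only [ores, map_mul, map_pow, TopCat.Presheaf.germ_res_apply] at e
      rw [X.mem_basicOpen a η (X.basicOpen_le h hηh), ← e]
      exact ((X.mem_basicOpen b η (hhU hηh)).1 hηb).mul (((X.mem_basicOpen h η _).1 hηh).pow n)
    refine (Pic18.fromSpecStalk_mem_basicOpen_iff hzA a j.1.1).1 hηa ((P.ev_aux j.1 _).1 ?_)
    rw [← P.ev_algebraMap]
    have e := congrArg ((P.ev j.1).comp Φ) ha'
    rw [map_mul] at e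
    simp only [RingHom.comp_apply, hΦ] at e
    change P.ev j.1 (ψ b) * _ = _ at e
    rw [hev, zero_mul] at e
    exact e.symm
  · obtain ⟨n, b, hn, hb, hbc⟩ := P.exists_mul_pow_eq_one (ψ c) hc
    obtain ⟨k, a, ha⟩ := IsLocalization.Away.surj h (ores hhU c)
    have ha' : ores hhU c * ores (X.basicOpen_le h) h ^ k = ores (X.basicOpen_le h) a := ha
    have e : ψ c * algebraMap (X.presheaf.stalk z) S P.f ^ k =
        algebraMap (X.presheaf.stalk z) S (X.presheaf.germ A z hzA a) := by
      have := congrArg Φ ha'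
      rw [map_mul, map_pow, hΦ, hΦ] at this
      exact this
    have e' : algebraMap (X.presheaf.stalk z) S (b * X.presheaf.germ A z hzA a ^ n) =
        algebraMap (X.presheaf.stalk z) S (P.f ^ (k * n)) := by
      rw [map_mul, map_pow, map_pow, ← e, mul_pow, ← mul_assoc, hbc, one_mul, ← pow_mul]
    obtain ⟨⟨_, l, rfl⟩, hl⟩ := IsLocalization.exists_of_eq (M := Submonoid.powers P.f) e'
    obtain ⟨B, hzB, r, rfl⟩ := X.presheaf.exists_germ_eq b
    have hzAB : z ∈ A ⊓ B := ⟨hzA, hzB⟩
    have e2 : X.presheaf.germ (A ⊓ B) z hzAB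
        (ores (inf_le_left : A ⊓ B ≤ A) h ^ l *
          (ores (inf_le_right : A ⊓ B ≤ B) r * ores (inf_le_left : A ⊓ B ≤ A) a ^ n)) =
        X.presheaf.germ (A ⊓ B) z hzAB
          (ores (inf_le_left : A ⊓ B ≤ A) h ^ l * ores (inf_le_left : A ⊓ B ≤ A) h ^ (k * n)) := by
      simp only [ores, map_mul, map_pow, TopCat.Presheaf.germ_res_apply]
      exact hl
    obtain ⟨V, hzV, i₁, i₂, hV⟩ := X.presheaf.germ_eq z hzAB hzAB _ _ e2
    have hVA : V ≤ A := i₁.le.trans inf_le_left
    have hVB : V ≤ B := i₁.le.trans inf_le_right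
    refine ⟨n, V, ores hVB r, hn, hzV, fun p hp => hAz p (hVA hp), fun hz' => ?_, ?_⟩
    · rw [X.mem_basicOpen _ z hzV, X.presheaf.germ_res_apply] at hz'
      exact hb hz'
    refine TopCat.Presheaf.section_ext X.sheaf _ _ _ fun p hp => ?_
    have hph : p ∈ X.basicOpen h := by
      rw [← hAU]
      exact ⟨hVA hp.1, hp.2⟩
    change X.presheaf.germ (V ⊓ U) p hp _ = X.presheaf.germ (V ⊓ U) p hp _
    have e3 := congrArg (X.presheaf.germ V p hp.1) hV
    have e4 := congrArg (X.presheaf.germ _ p hph) ha'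
    simp only [ores, map_mul, map_pow, map_one, TopCat.Presheaf.germ_res_apply] at e3 e4 ⊢
    have hu : IsUnit (X.presheaf.germ A p (hVA hp.1) h) := (X.mem_basicOpen h p _).1 hph
    refine ((hu.pow (k * n)).mul (hu.pow l)).mul_left_inj.1 ?_
    rw [← e4, mul_pow, ← pow_mul] at e3
    linear_combination e3

end Groth.Agent.PoleOne18
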